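import Cfsg.Agent.Lib.Helper12.TC.Fi24P10o28431.Tab
import Cfsg.Agent.Lib.Helper12.TC.Fn.LowerParts

/-! checks for the lower bound of the order, part 1 (generated, helper12) -/

set_option autoImplicit false
set_option maxRecDepth 100000

namespace Cfsg.Agent.Lib.Helper12.TC.Fi24P10o28431

open Cfsg.Agent.Lib.Helper12.TC

theorem hs12_1 : Fn.slpColK TT 12 [10, 11, 11, 11, 5, 8, 6, 8, 3, 4, 4, 9, 7, 8, 6, 9, 0, 7, 3, 6, 6, 2, 5, 8, 5, 1, 7, 8, 1] 4000 4000 = true := by decide +kernel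

theorem hspider_1 : Fn.eqWordsK TT [5, 4, 3, 5, 6, 7, 5, 8, 9, 5, 4, 3, 5, 6, 7, 5, 8, 9, 5, 4, 3, 5, 6, 7, 5, 8, 9, 5, 4, 3, 5, 6, 7, 5, 8, 9, 5, 4, 3, 5, 6, 7, 5, 8, 9, 5, 4, 3, 5, 6, 7, 5, 8, 9, 5, 4, 3, 5, 6, 7, 5, 8, 9, 5, 4, 3, 5, 6, 7, 5, 8, 9, 5, 4, 3, 5, 6, 7, 5, 8, 9, 5, 4, 3, 5, 6, 7, 5, 8, 9] [] 1333 1333 = true := by decide +kernel

theorem hs19_4 : Fn.slpColK TT 19 [18, 16, 18, 16, 12, 14, 16, 11, 12, 12, 10, 11, 11, 7, 2, 9, 8, 0, 6, 3, 5, 1, 3, 9, 6, 9, 3, 7, 1, 6, 4, 8, 7, 0, 5, 9, 6, 4] 12304 3076 = true := by decide +kernel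

end Cfsg.Agent.Lib.Helper12.TC.Fi24P10o28431
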