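import Cfsg.Agent.Lib.Helper12.TC.Fi24P10o28431.Main
import Cfsg.Agent.Lib.Helper12.TC.Fi24P10o28431.Lev0
import Cfsg.Agent.Lib.Helper12.TC.Fi24P10o28431.Lev1
import Cfsg.Agent.Lib.Helper12.TC.Fi24P10o28431.Lev2
import Cfsg.Agent.Lib.Helper12.TC.Fi24P10o28431.Lev3
import Cfsg.Agent.Lib.Helper12.TC.Fi24P10o28431.Lev4
import Cfsg.Agent.Lib.Helper12.TC.Fi24P10o28431.Lev5
import Cfsg.Agent.Lib.Helper12.TC.Fi24P10o28431.Lev6
import Cfsg.Agent.Lib.Helper12.TC.Fi24P10o28431.Lev7
import Cfsg.Agent.Lib.Helper12.TC.Fi24P10o28431.Lev8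
import Cfsg.Agent.Lib.Helper12.TC.Fi24P10o28431.Lev9
import Cfsg.Agent.Lib.Helper12.TC.Fi24P10o28431.Lev10
import Cfsg.Agent.Lib.Helper12.TC.Fi24P10o28431.Lev11
import Cfsg.Agent.Lib.Helper12.TC.Fi24P10o28431.Lev12
import Cfsg.Agent.Lib.Helper12.TC.Fi24P10o28431.Lev13
import Cfsg.Agent.Lib.Helper12.TC.Fi24P10o28431.Lev14
import Cfsg.Agent.Lib.Helper12.TC.Fi24P10o28431.Lev15
import Cfsg.Agent.Lib.Helper12.TC.Fi24P10o28431.Lev16
import Cfsg.Agent.Lib.Helper12.TC.Fi24P10o28431.Lev17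
import Cfsg.Agent.Lib.Helper12.TC.Fi24P10o28431.Lev18
import Cfsg.Agent.Lib.Helper12.TC.Fi24P10o28431.Lev19
import Cfsg.Agent.Lib.Helper12.TC.Fi24P10o28431.Lev20
import Cfsg.Agent.Lib.Helper12.TC.Fi24P10o28431.Lev21
import Cfsg.Agent.Lib.Helper12.TC.Fi24P10o28431.Lev22
import Cfsg.Agent.Lib.Helper12.TC.Fi24P10o28431.Lev23
import Cfsg.Agent.Lib.Helper12.TC.Fi24P10o28431.Lev24
import Cfsg.Agent.Lib.Helper12.TC.Fi24P10o28431.Lev25
import Cfsg.Agent.Lib.Helper12.TC.Fi24P10o28431.Lev26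
import Cfsg.Agent.Lib.Helper12.TC.Fi24P10o28431.Lev27
import Cfsg.Agent.Lib.Helper12.TC.Fi24P10o28431.Lev28
import Cfsg.Agent.Lib.Helper12.TC.Fi24P10o28431.Lev29
import Cfsg.Agent.Lib.Helper12.TC.Fi24P10o28431.Lev30
import Cfsg.Agent.Lib.Helper12.TC.Fi24P10o28431.Lev31
import Cfsg.Agent.Lib.Helper12.TC.Fi24P10o28431.Lev32
import Cfsg.Agent.Lib.Helper12.TC.Fi24P10o28431.Lev33
import Cfsg.Agent.Lib.Helper12.TC.Fi24P10o28431.Lev34
import Cfsg.Agent.Lib.Helper12.TC.Fi24P10o28431.Lev35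
import Cfsg.Agent.Lib.Helper12.TC.Fi24P10o28431.Lev36
import Cfsg.Agent.Lib.Helper12.TC.Fi24P10o28431.Lev37
import Cfsg.Agent.Lib.Helper12.TC.Fi24P10o28431.Lev38
import Cfsg.Agent.Lib.Helper12.TC.Fi24P10o28431.Lev39
import Cfsg.Agent.Lib.Helper12.TC.Fi24P10o28431.Lev40
import Cfsg.Agent.Lib.Helper12.TC.Fi24P10o28431.Lev41

/-! the permutation representation and the lower bound for the order for Fi24P10o28431 (generated, helper12) -/

set_option autoImplicit false
set_option maxRecDepth 100000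

namespace Cfsg.Agent.Lib.Helper12.TC.Fi24P10o28431

open Cfsg.Agent.Lib.Helper12.TC Cfsg.Agent.Lib.Helper12.TC.Fi24P10Pres

/-- the permutation representation -/
noncomputable def rho : (PresentedGroup (Cfsg.Spor.coxRelators Cfsg.Agent.Lib.Helper12.Ord.Fi24P10.edges ∪
      {r | r ∈ Cfsg.Agent.Lib.Helper12.Ord.Fi24P10.extra})) →* Equiv.Perm (Fin cN) := mainRho.choose

theorem rho_gen : ∀ x < 10, ∀ i : Fin cN, ((rho ((PresentedGroup.mk (Cfsg.Spor.coxRelators Cfsg.Agent.Lib.Helper12.Ord.Fi24P10.edges ∪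
      {r | r ∈ Cfsg.Agent.Lib.Helper12.Ord.Fi24P10.extra}))
    (FreeGroup.of (gen x))) i : Fin cN) : ℕ) = TT x i := mainRho.choose_spec.1

theorem rho_index : ((Subgroup.closure S).map (PresentedGroup.mk (Cfsg.Spor.coxRelators Cfsg.Agent.Lib.Helper12.Ord.Fi24P10.edges ∪
      {r | r ∈ Cfsg.Agent.Lib.Helper12.Ord.Fi24P10.extra}))).index = cN := mainRho.choose_spec.2.1

theorem rho_equiv : ∃ Φ : ((PresentedGroup (Cfsg.Spor.coxRelators Cfsg.Agent.Lib.Helper12.Ord.Fi24P10.edges ∪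
      {r | r ∈ Cfsg.Agent.Lib.Helper12.Ord.Fi24P10.extra})) ⧸
    (Subgroup.closure S).map (PresentedGroup.mk (Cfsg.Spor.coxRelators Cfsg.Agent.Lib.Helper12.Ord.Fi24P10.edges ∪
      {r | r ∈ Cfsg.Agent.Lib.Helper12.Ord.Fi24P10.extra}))) ≃ Fin cN,
    ∀ γ : (PresentedGroup (Cfsg.Spor.coxRelators Cfsg.Agent.Lib.Helper12.Ord.Fi24P10.edges ∪
      {r | r ∈ Cfsg.Agent.Lib.Helper12.Ord.Fi24P10.extra})), Φ (γ : (PresentedGroup (Cfsg.Spor.coxRelators Cfsg.Agent.Lib.Helper12.Ord.Fi24P10.edges ∪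
      {r | r ∈ Cfsg.Agent.Lib.Helper12.Ord.Fi24P10.extra})) ⧸
      (Subgroup.closure S).map (PresentedGroup.mk (Cfsg.Spor.coxRelators Cfsg.Agent.Lib.Helper12.Ord.Fi24P10.edges ∪
      {r | r ∈ Cfsg.Agent.Lib.Helper12.Ord.Fi24P10.extra}))) = rho γ ⟨0, hN0⟩ := mainRho.choose_spec.2.2

/-- the words of the further columns -/
def prog : List (List ℕ) :=
  [[2, 9, 1, 4, 1, 7, 7, 7, 6, 3, 1, 7, 0, 6, 6, 9, 0, 7, 4, 3, 9, 1, 5, 0, 0],
   [0, 8, 0, 6, 3, 6, 0, 8, 3, 7, 7, 8, 3, 5, 3, 3, 7, 4, 0, 6, 8, 1, 2, 4, 1],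
   [10, 11, 11, 11, 5, 8, 6, 8, 3, 4, 4, 9, 7, 8, 6, 9, 0, 7, 3, 6, 6, 2, 5, 8, 5, 1, 7, 8, 1],
   [11, 12, 12, 10, 11, 11, 12, 12, 10, 2, 8, 6, 5, 7, 0, 7, 0, 4, 9, 9, 9, 6, 2, 2, 8, 3, 0, 3, 8, 8, 3, 6, 8, 5],
   [11, 11, 11, 9, 5, 7, 4, 8, 9, 0, 6, 8, 2, 8, 8, 3, 6, 0, 7, 5, 9, 8, 3, 8, 6, 7, 5, 6],
   [12, 14, 11, 13, 11, 14, 10, 11, 10, 13, 5, 0, 8, 8, 9, 9, 5, 7, 9, 0, 3, 2, 8, 9, 2, 1, 8, 4, 0, 1, 1, 0, 7, 0, 4],
   [14, 13, 11, 11, 12, 10, 3, 4, 1, 9, 2, 5, 4, 1, 2, 2, 4, 8, 2, 4, 4, 7, 5, 7, 7, 1, 0, 4, 6, 5, 6],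
   [12, 12, 10, 11, 15, 3, 4, 1, 4, 8, 3, 9, 6, 0, 3, 0, 6, 2, 0, 2, 7, 8, 6, 8, 3, 8, 7, 3, 8, 0],
   [17, 15, 17, 13, 11, 6, 9, 5, 6, 0, 4, 2, 3, 0, 4, 1, 1, 4, 4, 2, 6, 9, 4, 2, 0, 8, 0, 9, 3, 9],
   [18, 16, 18, 16, 12, 14, 16, 11, 12, 12, 10, 11, 11, 7, 2, 9, 8, 0, 6, 3, 5, 1, 3, 9, 6, 9, 3, 7, 1, 6, 4, 8, 7, 0, 5, 9, 6, 4],
   [17, 17, 16, 18, 16, 13, 17, 16, 11, 11, 12, 10, 0, 2, 3, 5, 9, 2, 5, 6, 3, 4, 1, 6, 8, 5, 8, 7, 8, 3, 1, 0, 1, 2, 2, 2, 8],
   [17, 20, 16, 15, 16, 12, 14, 11, 15, 10, 3, 4, 5, 9, 8, 4, 5, 5, 5, 1, 4, 3, 9, 7, 2, 9, 8, 1, 5, 0, 6, 1, 6, 2, 2],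
   [19, 18, 17, 17, 16, 16, 14, 11, 15, 10, 11, 13, 5, 1, 9, 9, 6, 1, 9, 8, 3, 9, 1, 4, 5, 4, 9, 8, 1, 7, 4, 1, 0, 4, 0, 9, 0]]

theorem hcol10 : Fn.ColOK TT 10 [2, 9, 1, 4, 1, 7, 7, 7, 6, 3, 1, 7, 0, 6, 6, 9, 0, 7, 4, 3, 9, 1, 5, 0, 0] cN :=
  Fn.colOK_step hs10_6 rfl
    (Fn.colOK_step hs10_5 rfl
    (Fn.colOK_step hs10_4 rfl
    (Fn.colOK_step hs10_3 rfl
    (Fn.colOK_step hs10_2 rfl
    (Fn.colOK_step hs10_1 rfl
    (Fn.colOK_step hs10_0 rfl
    (Fn.colOK_start TT 10 [2, 9, 1, 4, 1, 7, 7, 7, 6, 3, 1, 7, 0, 6, 6, 9, 0, 7, 4, 3, 9, 1, 5, 0, 0])))))))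

theorem hstep10 : Fn.slpStepK TT cN 10 [2, 9, 1, 4, 1, 7, 7, 7, 6, 3, 1, 7, 0, 6, 6, 9, 0, 7, 4, 3, 9, 1, 5, 0, 0] = true :=
  Fn.slpStepK_of_colOK (by decide) hcol10

theorem hcol11 : Fn.ColOK TT 11 [0, 8, 0, 6, 3, 6, 0, 8, 3, 7, 7, 8, 3, 5, 3, 3, 7, 4, 0, 6, 8, 1, 2, 4, 1] cN :=
  Fn.colOK_step hs11_6 rfl
    (Fn.colOK_step hs11_5 rfl
    (Fn.colOK_step hs11_4 rfl
    (Fn.colOK_step hs11_3 rfl
    (Fn.colOK_step hs11_2 rfl
    (Fn.colOK_step hs11_1 rfl
    (Fn.colOK_step hs11_0 rfl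
    (Fn.colOK_start TT 11 [0, 8, 0, 6, 3, 6, 0, 8, 3, 7, 7, 8, 3, 5, 3, 3, 7, 4, 0, 6, 8, 1, 2, 4, 1])))))))

theorem hstep11 : Fn.slpStepK TT cN 11 [0, 8, 0, 6, 3, 6, 0, 8, 3, 7, 7, 8, 3, 5, 3, 3, 7, 4, 0, 6, 8, 1, 2, 4, 1] = true :=
  Fn.slpStepK_of_colOK (by decide) hcol11

theorem hcol12 : Fn.ColOK TT 12 [10, 11, 11, 11, 5, 8, 6, 8, 3, 4, 4, 9, 7, 8, 6, 9, 0, 7, 3, 6, 6, 2, 5, 8, 5, 1, 7, 8, 1] cN :=
  Fn.colOK_step hs12_7 rfl
    (Fn.colOK_step hs12_6 rfl
    (Fn.colOK_step hs12_5 rfl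
    (Fn.colOK_step hs12_4 rfl
    (Fn.colOK_step hs12_3 rfl
    (Fn.colOK_step hs12_2 rfl
    (Fn.colOK_step hs12_1 rfl
    (Fn.colOK_step hs12_0 rfl
    (Fn.colOK_start TT 12 [10, 11, 11, 11, 5, 8, 6, 8, 3, 4, 4, 9, 7, 8, 6, 9, 0, 7, 3, 6, 6, 2, 5, 8, 5, 1, 7, 8, 1]))))))))

theorem hstep12 : Fn.slpStepK TT cN 12 [10, 11, 11, 11, 5, 8, 6, 8, 3, 4, 4, 9, 7, 8, 6, 9, 0, 7, 3, 6, 6, 2, 5, 8, 5, 1, 7, 8, 1] = true :=
  Fn.slpStepK_of_colOK (by decide) hcol12

theorem hcol13 : Fn.ColOK TT 13 [11, 12, 12, 10, 11, 11, 12, 12, 10, 2, 8, 6, 5, 7, 0, 7, 0, 4, 9, 9, 9, 6, 2, 2, 8, 3, 0, 3, 8, 8, 3, 6, 8, 5] cN :=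
  Fn.colOK_step hs13_8 rfl
    (Fn.colOK_step hs13_7 rfl
    (Fn.colOK_step hs13_6 rfl
    (Fn.colOK_step hs13_5 rfl
    (Fn.colOK_step hs13_4 rfl
    (Fn.colOK_step hs13_3 rfl
    (Fn.colOK_step hs13_2 rfl
    (Fn.colOK_step hs13_1 rfl
    (Fn.colOK_step hs13_0 rfl
    (Fn.colOK_start TT 13 [11, 12, 12, 10, 11, 11, 12, 12, 10, 2, 8, 6, 5, 7, 0, 7, 0, 4, 9, 9, 9, 6, 2, 2, 8, 3, 0, 3, 8, 8, 3, 6, 8, 5])))))))))

theorem hstep13 : Fn.slpStepK TT cN 13 [11, 12, 12, 10, 11, 11, 12, 12, 10, 2, 8, 6, 5, 7, 0, 7, 0, 4, 9, 9, 9, 6, 2, 2, 8, 3, 0, 3, 8, 8, 3, 6, 8, 5] = true :=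
  Fn.slpStepK_of_colOK (by decide) hcol13

theorem hcol14 : Fn.ColOK TT 14 [11, 11, 11, 9, 5, 7, 4, 8, 9, 0, 6, 8, 2, 8, 8, 3, 6, 0, 7, 5, 9, 8, 3, 8, 6, 7, 5, 6] cN :=
  Fn.colOK_step hs14_6 rfl
    (Fn.colOK_step hs14_5 rfl
    (Fn.colOK_step hs14_4 rfl
    (Fn.colOK_step hs14_3 rfl
    (Fn.colOK_step hs14_2 rfl
    (Fn.colOK_step hs14_1 rfl
    (Fn.colOK_step hs14_0 rfl
    (Fn.colOK_start TT 14 [11, 11, 11, 9, 5, 7, 4, 8, 9, 0, 6, 8, 2, 8, 8, 3, 6, 0, 7, 5, 9, 8, 3, 8, 6, 7, 5, 6])))))))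

theorem hstep14 : Fn.slpStepK TT cN 14 [11, 11, 11, 9, 5, 7, 4, 8, 9, 0, 6, 8, 2, 8, 8, 3, 6, 0, 7, 5, 9, 8, 3, 8, 6, 7, 5, 6] = true :=
  Fn.slpStepK_of_colOK (by decide) hcol14

theorem hcol15 : Fn.ColOK TT 15 [12, 14, 11, 13, 11, 14, 10, 11, 10, 13, 5, 0, 8, 8, 9, 9, 5, 7, 9, 0, 3, 2, 8, 9, 2, 1, 8, 4, 0, 1, 1, 0, 7, 0, 4] cN :=
  Fn.colOK_step hs15_8 rfl
    (Fn.colOK_step hs15_7 rfl
    (Fn.colOK_step hs15_6 rfl
    (Fn.colOK_step hs15_5 rfl
    (Fn.colOK_step hs15_4 rfl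
    (Fn.colOK_step hs15_3 rfl
    (Fn.colOK_step hs15_2 rfl
    (Fn.colOK_step hs15_1 rfl
    (Fn.colOK_step hs15_0 rfl
    (Fn.colOK_start TT 15 [12, 14, 11, 13, 11, 14, 10, 11, 10, 13, 5, 0, 8, 8, 9, 9, 5, 7, 9, 0, 3, 2, 8, 9, 2, 1, 8, 4, 0, 1, 1, 0, 7, 0, 4])))))))))

theorem hstep15 : Fn.slpStepK TT cN 15 [12, 14, 11, 13, 11, 14, 10, 11, 10, 13, 5, 0, 8, 8, 9, 9, 5, 7, 9, 0, 3, 2, 8, 9, 2, 1, 8, 4, 0, 1, 1, 0, 7, 0, 4] = true :=
  Fn.slpStepK_of_colOK (by decide) hcol15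

theorem hcol16 : Fn.ColOK TT 16 [14, 13, 11, 11, 12, 10, 3, 4, 1, 9, 2, 5, 4, 1, 2, 2, 4, 8, 2, 4, 4, 7, 5, 7, 7, 1, 0, 4, 6, 5, 6] cN :=
  Fn.colOK_step hs16_7 rfl
    (Fn.colOK_step hs16_6 rfl
    (Fn.colOK_step hs16_5 rfl
    (Fn.colOK_step hs16_4 rfl
    (Fn.colOK_step hs16_3 rfl
    (Fn.colOK_step hs16_2 rfl
    (Fn.colOK_step hs16_1 rfl
    (Fn.colOK_step hs16_0 rfl
    (Fn.colOK_start TT 16 [14, 13, 11, 11, 12, 10, 3, 4, 1, 9, 2, 5, 4, 1, 2, 2, 4, 8, 2, 4, 4, 7, 5, 7, 7, 1, 0, 4, 6, 5, 6]))))))))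

theorem hstep16 : Fn.slpStepK TT cN 16 [14, 13, 11, 11, 12, 10, 3, 4, 1, 9, 2, 5, 4, 1, 2, 2, 4, 8, 2, 4, 4, 7, 5, 7, 7, 1, 0, 4, 6, 5, 6] = true :=
  Fn.slpStepK_of_colOK (by decide) hcol16

theorem hcol17 : Fn.ColOK TT 17 [12, 12, 10, 11, 15, 3, 4, 1, 4, 8, 3, 9, 6, 0, 3, 0, 6, 2, 0, 2, 7, 8, 6, 8, 3, 8, 7, 3, 8, 0] cN :=
  Fn.colOK_step hs17_7 rfl
    (Fn.colOK_step hs17_6 rfl
    (Fn.colOK_step hs17_5 rfl
    (Fn.colOK_step hs17_4 rfl
    (Fn.colOK_step hs17_3 rfl
    (Fn.colOK_step hs17_2 rfl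
    (Fn.colOK_step hs17_1 rfl
    (Fn.colOK_step hs17_0 rfl
    (Fn.colOK_start TT 17 [12, 12, 10, 11, 15, 3, 4, 1, 4, 8, 3, 9, 6, 0, 3, 0, 6, 2, 0, 2, 7, 8, 6, 8, 3, 8, 7, 3, 8, 0]))))))))

theorem hstep17 : Fn.slpStepK TT cN 17 [12, 12, 10, 11, 15, 3, 4, 1, 4, 8, 3, 9, 6, 0, 3, 0, 6, 2, 0, 2, 7, 8, 6, 8, 3, 8, 7, 3, 8, 0] = true :=
  Fn.slpStepK_of_colOK (by decide) hcol17

theorem hcol18 : Fn.ColOK TT 18 [17, 15, 17, 13, 11, 6, 9, 5, 6, 0, 4, 2, 3, 0, 4, 1, 1, 4, 4, 2, 6, 9, 4, 2, 0, 8, 0, 9, 3, 9] cN :=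
  Fn.colOK_step hs18_7 rfl
    (Fn.colOK_step hs18_6 rfl
    (Fn.colOK_step hs18_5 rfl
    (Fn.colOK_step hs18_4 rfl
    (Fn.colOK_step hs18_3 rfl
    (Fn.colOK_step hs18_2 rfl
    (Fn.colOK_step hs18_1 rfl
    (Fn.colOK_step hs18_0 rfl
    (Fn.colOK_start TT 18 [17, 15, 17, 13, 11, 6, 9, 5, 6, 0, 4, 2, 3, 0, 4, 1, 1, 4, 4, 2, 6, 9, 4, 2, 0, 8, 0, 9, 3, 9]))))))))

theorem hstep18 : Fn.slpStepK TT cN 18 [17, 15, 17, 13, 11, 6, 9, 5, 6, 0, 4, 2, 3, 0, 4, 1, 1, 4, 4, 2, 6, 9, 4, 2, 0, 8, 0, 9, 3, 9] = true :=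
  Fn.slpStepK_of_colOK (by decide) hcol18

theorem hcol19 : Fn.ColOK TT 19 [18, 16, 18, 16, 12, 14, 16, 11, 12, 12, 10, 11, 11, 7, 2, 9, 8, 0, 6, 3, 5, 1, 3, 9, 6, 9, 3, 7, 1, 6, 4, 8, 7, 0, 5, 9, 6, 4] cN :=
  Fn.colOK_step hs19_9 rfl
    (Fn.colOK_step hs19_8 rfl
    (Fn.colOK_step hs19_7 rfl
    (Fn.colOK_step hs19_6 rfl
    (Fn.colOK_step hs19_5 rfl
    (Fn.colOK_step hs19_4 rfl
    (Fn.colOK_step hs19_3 rfl
    (Fn.colOK_step hs19_2 rfl
    (Fn.colOK_step hs19_1 rfl
    (Fn.colOK_step hs19_0 rfl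
    (Fn.colOK_start TT 19 [18, 16, 18, 16, 12, 14, 16, 11, 12, 12, 10, 11, 11, 7, 2, 9, 8, 0, 6, 3, 5, 1, 3, 9, 6, 9, 3, 7, 1, 6, 4, 8, 7, 0, 5, 9, 6, 4]))))))))))

theorem hstep19 : Fn.slpStepK TT cN 19 [18, 16, 18, 16, 12, 14, 16, 11, 12, 12, 10, 11, 11, 7, 2, 9, 8, 0, 6, 3, 5, 1, 3, 9, 6, 9, 3, 7, 1, 6, 4, 8, 7, 0, 5, 9, 6, 4] = true :=
  Fn.slpStepK_of_colOK (by decide) hcol19

theorem hcol20 : Fn.ColOK TT 20 [17, 17, 16, 18, 16, 13, 17, 16, 11, 11, 12, 10, 0, 2, 3, 5, 9, 2, 5, 6, 3, 4, 1, 6, 8, 5, 8, 7, 8, 3, 1, 0, 1, 2, 2, 2, 8] cN :=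
  Fn.colOK_step hs20_9 rfl
    (Fn.colOK_step hs20_8 rfl
    (Fn.colOK_step hs20_7 rfl
    (Fn.colOK_step hs20_6 rfl
    (Fn.colOK_step hs20_5 rfl
    (Fn.colOK_step hs20_4 rfl
    (Fn.colOK_step hs20_3 rfl
    (Fn.colOK_step hs20_2 rfl
    (Fn.colOK_step hs20_1 rfl
    (Fn.colOK_step hs20_0 rfl
    (Fn.colOK_start TT 20 [17, 17, 16, 18, 16, 13, 17, 16, 11, 11, 12, 10, 0, 2, 3, 5, 9, 2, 5, 6, 3, 4, 1, 6, 8, 5, 8, 7, 8, 3, 1, 0, 1, 2, 2, 2, 8]))))))))))

theorem hstep20 : Fn.slpStepK TT cN 20 [17, 17, 16, 18, 16, 13, 17, 16, 11, 11, 12, 10, 0, 2, 3, 5, 9, 2, 5, 6, 3, 4, 1, 6, 8, 5, 8, 7, 8, 3, 1, 0, 1, 2, 2, 2, 8] = true :=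
  Fn.slpStepK_of_colOK (by decide) hcol20

theorem hcol21 : Fn.ColOK TT 21 [17, 20, 16, 15, 16, 12, 14, 11, 15, 10, 3, 4, 5, 9, 8, 4, 5, 5, 5, 1, 4, 3, 9, 7, 2, 9, 8, 1, 5, 0, 6, 1, 6, 2, 2] cN :=
  Fn.colOK_step hs21_8 rfl
    (Fn.colOK_step hs21_7 rfl
    (Fn.colOK_step hs21_6 rfl
    (Fn.colOK_step hs21_5 rfl
    (Fn.colOK_step hs21_4 rfl
    (Fn.colOK_step hs21_3 rfl
    (Fn.colOK_step hs21_2 rfl
    (Fn.colOK_step hs21_1 rfl
    (Fn.colOK_step hs21_0 rfl
    (Fn.colOK_start TT 21 [17, 20, 16, 15, 16, 12, 14, 11, 15, 10, 3, 4, 5, 9, 8, 4, 5, 5, 5, 1, 4, 3, 9, 7, 2, 9, 8, 1, 5, 0, 6, 1, 6, 2, 2])))))))))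

theorem hstep21 : Fn.slpStepK TT cN 21 [17, 20, 16, 15, 16, 12, 14, 11, 15, 10, 3, 4, 5, 9, 8, 4, 5, 5, 5, 1, 4, 3, 9, 7, 2, 9, 8, 1, 5, 0, 6, 1, 6, 2, 2] = true :=
  Fn.slpStepK_of_colOK (by decide) hcol21

theorem hcol22 : Fn.ColOK TT 22 [19, 18, 17, 17, 16, 16, 14, 11, 15, 10, 11, 13, 5, 1, 9, 9, 6, 1, 9, 8, 3, 9, 1, 4, 5, 4, 9, 8, 1, 7, 4, 1, 0, 4, 0, 9, 0] cN :=
  Fn.colOK_step hs22_9 rfl
    (Fn.colOK_step hs22_8 rfl
    (Fn.colOK_step hs22_7 rfl
    (Fn.colOK_step hs22_6 rfl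
    (Fn.colOK_step hs22_5 rfl
    (Fn.colOK_step hs22_4 rfl
    (Fn.colOK_step hs22_3 rfl
    (Fn.colOK_step hs22_2 rfl
    (Fn.colOK_step hs22_1 rfl
    (Fn.colOK_step hs22_0 rfl
    (Fn.colOK_start TT 22 [19, 18, 17, 17, 16, 16, 14, 11, 15, 10, 11, 13, 5, 1, 9, 9, 6, 1, 9, 8, 3, 9, 1, 4, 5, 4, 9, 8, 1, 7, 4, 1, 0, 4, 0, 9, 0]))))))))))

theorem hstep22 : Fn.slpStepK TT cN 22 [19, 18, 17, 17, 16, 16, 14, 11, 15, 10, 11, 13, 5, 1, 9, 9, 6, 1, 9, 8, 3, 9, 1, 4, 5, 4, 9, 8, 1, 7, 4, 1, 0, 4, 0, 9, 0] = true :=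
  Fn.slpStepK_of_colOK (by decide) hcol22

theorem hslp : Fn.slpAllK TT cN 10 prog = true :=
  Fn.slpAllK_cons hstep10
    (Fn.slpAllK_cons hstep11
    (Fn.slpAllK_cons hstep12
    (Fn.slpAllK_cons hstep13
    (Fn.slpAllK_cons hstep14
    (Fn.slpAllK_cons hstep15
    (Fn.slpAllK_cons hstep16
    (Fn.slpAllK_cons hstep17
    (Fn.slpAllK_cons hstep18
    (Fn.slpAllK_cons hstep19
    (Fn.slpAllK_cons hstep20
    (Fn.slpAllK_cons hstep21
    (Fn.slpAllK_cons hstep22
    (Fn.slpAllK_nil TT cN 23)))))))))))))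

theorem hslpl : Fn.slpLettersK 10 prog = true := by decide

/-- the generators and the further elements -/
noncomputable def uu : ℕ → (PresentedGroup (Cfsg.Spor.coxRelators Cfsg.Agent.Lib.Helper12.Ord.Fi24P10.edges ∪
      {r | r ∈ Cfsg.Agent.Lib.Helper12.Ord.Fi24P10.extra})) :=
  Fn.slpRun prog 10 (fun x => (PresentedGroup.mk (Cfsg.Spor.coxRelators Cfsg.Agent.Lib.Helper12.Ord.Fi24P10.edges ∪
      {r | r ∈ Cfsg.Agent.Lib.Helper12.Ord.Fi24P10.extra})) (FreeGroup.of (gen x)))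

theorem rho_uu : ∀ x < 23, ∀ i : Fin cN, ((rho (uu x) i : Fin cN) : ℕ) = TT x i :=
  (Fn.slp_sound rho TT prog 10 _ rho_gen hslp).1

theorem uu_gen : ∀ x < 10, uu x = (PresentedGroup.mk (Cfsg.Spor.coxRelators Cfsg.Agent.Lib.Helper12.Ord.Fi24P10.edges ∪
      {r | r ∈ Cfsg.Agent.Lib.Helper12.Ord.Fi24P10.extra})) (FreeGroup.of (gen x)) :=
  (Fn.slp_sound rho TT prog 10 _ rho_gen hslp).2.1

theorem uu_spec : ∀ (k : ℕ) (w : List ℕ), prog[k]? = some w → uu (10 + k) = wprod uu w :=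
  Fn.slpRun_spec prog 10 _ hslpl

theorem hspider : rho (wprod uu [5, 4, 3, 5, 6, 7, 5, 8, 9, 5, 4, 3, 5, 6, 7, 5, 8, 9, 5, 4, 3, 5, 6, 7, 5, 8, 9, 5, 4, 3, 5, 6, 7, 5, 8, 9, 5, 4, 3, 5, 6, 7, 5, 8, 9, 5, 4, 3, 5, 6, 7, 5, 8, 9, 5, 4, 3, 5, 6, 7, 5, 8, 9, 5, 4, 3, 5, 6, 7, 5, 8, 9, 5, 4, 3, 5, 6, 7, 5, 8, 9, 5, 4, 3, 5, 6, 7, 5, 8, 9]) = rho (wprod uu []) :=
  Fn.rho_wprod_eq rho TT uu 23 rho_uu (by decide) (by decide)
    (Fn.wordsEq_step hspider_21 rfl
    (Fn.wordsEq_step hspider_20 rfl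
    (Fn.wordsEq_step hspider_19 rfl
    (Fn.wordsEq_step hspider_18 rfl
    (Fn.wordsEq_step hspider_17 rfl
    (Fn.wordsEq_step hspider_16 rfl
    (Fn.wordsEq_step hspider_15 rfl
    (Fn.wordsEq_step hspider_14 rfl
    (Fn.wordsEq_step hspider_13 rfl
    (Fn.wordsEq_step hspider_12 rfl
    (Fn.wordsEq_step hspider_11 rfl
    (Fn.wordsEq_step hspider_10 rfl
    (Fn.wordsEq_step hspider_9 rfl
    (Fn.wordsEq_step hspider_8 rfl
    (Fn.wordsEq_step hspider_7 rfl
    (Fn.wordsEq_step hspider_6 rfl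
    (Fn.wordsEq_step hspider_5 rfl
    (Fn.wordsEq_step hspider_4 rfl
    (Fn.wordsEq_step hspider_3 rfl
    (Fn.wordsEq_step hspider_2 rfl
    (Fn.wordsEq_step hspider_1 rfl
    (Fn.wordsEq_step hspider_0 rfl
    (Fn.wordsEq_start TT [5, 4, 3, 5, 6, 7, 5, 8, 9, 5, 4, 3, 5, 6, 7, 5, 8, 9, 5, 4, 3, 5, 6, 7, 5, 8, 9, 5, 4, 3, 5, 6, 7, 5, 8, 9, 5, 4, 3, 5, 6, 7, 5, 8, 9, 5, 4, 3, 5, 6, 7, 5, 8, 9, 5, 4, 3, 5, 6, 7, 5, 8, 9, 5, 4, 3, 5, 6, 7, 5, 8, 9, 5, 4, 3, 5, 6, 7, 5, 8, 9, 5, 4, 3, 5, 6, 7, 5, 8, 9] [])))))))))))))))))))))))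

theorem htree0 : Fn.TreeOK hN0 rho uu 23 [10, 11, 12, 13, 14, 15, 16, 17, 18, 19, 21, 20, 22] 0 38353651935379980601863054015337856863281500444479781602477952994618787165574239638707795202264716263388218566771943768489871213523077411669681675392684949327024131930858143714107377839700617593683484303394025841007461126815365740776313929220272851223986648617158349110683521308543451643227414365724590723496235180295081187960859029401260161874299139046525800013347092271514368111677441795793095179986059522696081845533904087051262843998742017098987419831442891325635834566903744643244283211578831359157214841404451457265630437058366724542245723443684869460875375427624000058081004366908279811321190774572168830163731557782072049896130319391417734469855295254620390472944368617234983454735937221083095041526880176318291989207467789774695213076737523368315855844785871870136993424856932064014303496317497354469885982735547493603749459061715372049087496806297663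8439869347058343261981645360407010239027806817550073256570356123508747102869320515146750568290149448370121839416333978430403678383201173332341640842138665524263054943516573506002065639537308794046850162415849246691249856860894748999376678137222163420526898809815190795685257083943111871247268473392404700468305580069317950788605482528369980310042026326655467367038840918512566969865668096594831244615187778105843852251039705629180757305678076821308803603880938977003804362961518671700161654337284116116182256643412465545716736087386732993753237787847702187455410058868991641806740583903796716776982679291625892072066197017428733485738946992636859108466905362122891550926843228077202700850248583053660693638270166183678380525814105538231018124230143212480878141343457504940964377182368445797288875328940329516429967486925628579539903687071853898961848613316703620345929534461569844475121360708616111398546280403093606381335513044720357798293363283375852242443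2532332299338297792370226715752448961283351615533240956126386781585066958166206949276913649948413501625954425487455496296429264829265793667656039471691497197889783002943860195717752783656958289294172460494002499797873986996132683330302428816476963388231056916247040496825054348192395644501856680660102665573988760335003976150358124988798284545375244565823758901274524723497656620554305987983094742288279752097227715074966038201068680533459193762577626751471844395733022613103307814919722715675730101873111176541798692148634397871838025732286118882369088530180113297301768361341304961356564996604655095520876380975229861127809475322198184630916834238802782123139485223104964008170940897065567856714894650115519964065931711971795575675132578064917987629536937578673169074436043290067345358364068561670313959267132385298744726148576442254596271134283441843131215263315494318991143573116247821440976164863980698835630075551632159175387332275866594413329649967506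1254262006129521318090206103220223939167998939609870953386089283215240486936269811574031584684210125503044176839550752384336278454991915288664819426046976636740782475400792409633712255022107905072446450521394347794359473470975188980785555385542545954266561118485107013764525989216486117467402373433407119882015203011277989725131467749456162790618859703102941403178520707177719304923538241062473729793552847483382392972343429685088020402727911388755326706948247481213459899206436078779980140208415660134306389223912233794792184616644054810335677426913361038747305261251340695799241907309936240014060634807426647734233060766673061115818027209599377660531237351526631642960281633215104182970507047267359540524019100734358111507341748543051150831243665343650399473217126019566892757652155621396064640035553204756743017153580211306015115485523028342418964221785501939908121735899858771804426349242815869783608736340006075897603383112846366282298524191466791256052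5257577665758975359596193377823978891092210347238350592151582393203066464802780141564725283440994397790814696338083444393383241609687546858719960439178707943940324765575357679023488891633395698876417755899351887408324714142184984599631825957731771656648368123633408410417906944390301061679417896685887201810706901010806266335679685464317006837112435781739264944168261367800386241452920934910030987938699717505364089259246164440155136118245608775718424576664283459885201711838067510140028865660843625859074848831748423513302366774259585663770523184408400054718021999271441730787135278413865647846869377571047441291738655806422142417123049318868805522147507954040219434446343739861239140917704579779942115430699208119149279827615913296704515512952670552261445764143773691790533470289616082626680608226568252917689284409718673813253099012202000301200291198008745407755483141341557996027979815031811172079498686609764128375880801543005615182392193287014462967121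9706310064563844066494785076174996978659066999801436041739521314832351863860669965562995442129584205439986180688048194417586515778416371115019138211137551663142606281464834092550347639785560954414819281850983932209379935992590538136608508760063863195166906952842423454828807506519175907747712495484065868128038147826855551978057114025602962451478387527370507664806035987504374802932750167195538500758252617106054977421883349127742079201969340002239287412105486749155198506467082721712228778713798370717222210473852058822729778846005611592244507146172307178874569538716737965570113719630698048663678792640162604704688943778917088828121928626622434817400819037441678861352867627619228961845896560510104285153250993762160194313884519584155681812337920604927315848505696960300835575685759563418989532270395045456169391492912182195794895385340023569416615233410195464386138033363214422024832124807916136548206858483101905227693271886371138827592611365446536599517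1780565524183242083682137894792164890487499001686075686553707855650008025647931540251431175780277207933137866493657250265757487054013852637477549570107430554352447840270555542461549293735775457130131206048978545956479538373567297565582726111120715408624875589658754862741879053722024588419442774713035512658683423123182670739306851259765822795345037940984705666913953458602836216973518045161797902785195273652565524229704749712237208173552449196084713889970259808597603386435985823250677454033837044207927172871412688299658894970660360430303531107865338554386322733987972551495752121211584391913021613890423064509980234105910686232941920904791157411283544484736903921527349384424397602500816011853281971916284599245510275505426498402883607273676329582988476629361145103076713863385273565850297113225517511341749850191414698719402495159202088249182102000694956028708397803565946328220811218878620581052159780895881640805024186535100033024248558381854730815189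7391028831536429351963988667728749908880533485945429014510413115316194836973135972188039481254749874456045700843635984814113581674589855137915907249418134747780675389577768802900867286961829793118658929565629660564550165324861099846827388790938106663598877939663165711761655918805295151426525640978494314655179197094558828812138672850583738685900549255107213966353387730221285239869076999839709896820231626006381409202357925035561293260764354656229421883661773381599388258395045276072364367507040242882526265836847065707734778983952237974764444909870250289691420553960786674759263229855171359464922580102821118009610528134268153310949168134550962047980520256213885214630771577312957638050650845065220998145578978467815112424104983518738790920926589832563474628215867953508899684925505692605017272695477350692403291403638227401183253240428703246846466889048466493022100088951147063207865002863999014851639189367987725539048250327272101453410778076899996226116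334503728957975475072654999169340784410530598038774588701642164021118124785998622008472179827275371971702286365235359205748390805837934073937112724138925458789351101199931923196815568736446655089851640183555861105139307068278356726864872380998517153884220037352135646486141964915600156727195060905951108646458849658850024844158360592287919742959275607566497130212342016307649471365667520799669343021034033793436410585038186065727943506939366697385395961929028443068714399485794097567552192578527187142071270702187494026879697667549626289635359863425236448742746288617390492475547844120254378739280565468391101965345052501668483636783471177335188288230990490001299709586098996839082640127894272060241846017129947169607891261416046119845235503709749198463446168511311850608575792179637524554418219855936982627971867047230356648127686631595915122366820993920036605154188405816796268955097612050777688647756103835520949377225891805311235264938083546688150099890263200265636524221319554451686555647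 28431 :=
  Fn.treeOK_step hN0 rho TT uu 23 rho_uu ht0_8 rfl
    (Fn.treeOK_step hN0 rho TT uu 23 rho_uu ht0_7 rfl
    (Fn.treeOK_step hN0 rho TT uu 23 rho_uu ht0_6 rfl
    (Fn.treeOK_step hN0 rho TT uu 23 rho_uu ht0_5 rfl
    (Fn.treeOK_step hN0 rho TT uu 23 rho_uu ht0_4 rfl
    (Fn.treeOK_step hN0 rho TT uu 23 rho_uu ht0_3 rfl
    (Fn.treeOK_step hN0 rho TT uu 23 rho_uu ht0_2 rfl
    (Fn.treeOK_step hN0 rho TT uu 23 rho_uu ht0_1 rfl
    (Fn.treeOK_step hN0 rho TT uu 23 rho_uu ht0_0 rfl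
    (Fn.treeOK_start hN0 rho uu 23 [10, 11, 12, 13, 14, 15, 16, 17, 18, 19, 21, 20, 22] 0 (by decide))))))))))

theorem hlev0 : Fn.LevelOK hN0 rho [] 0 28431 :=
  Fn.levelOK_of_tree hN0 rho TT uu 23 rho_uu (by decide) (by decide) hgens0 htree0

theorem htree1 : Fn.TreeOK hN0 rho uu 23 [11, 12, 13, 14, 15, 16, 17, 18, 19, 21, 20, 22] 1 19490628022799998160706764775750376621752453715190015053735812914425897381532852204931230131764020518450609832462817336366918339730406188093155974592625306839062555399912946059741579310980107296705599186958436757747371195850789749891492727230937931225655477606208555094163657179983828221950 960 :=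
  Fn.treeOK_step hN0 rho TT uu 23 rho_uu ht1_0 rfl
    (Fn.treeOK_start hN0 rho uu 23 [11, 12, 13, 14, 15, 16, 17, 18, 19, 21, 20, 22] 1 (by decide))

theorem hlev1 : Fn.LevelOK hN0 rho [0] 1 960 :=
  Fn.levelOK_of_tree hN0 rho TT uu 23 rho_uu (by decide) (by decide) hgens1 htree1

theorem htree2 : Fn.TreeOK hN0 rho uu 23 [12, 13, 14, 15, 16, 17, 18, 19, 21, 20, 22] 3 6703903964971298549787012509933664056399115955525022142156448647040642298956526004609032414806580955766098919265165533701492290785773729571737759574130684 84 :=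
  Fn.treeOK_step hN0 rho TT uu 23 rho_uu ht2_0 rfl
    (Fn.treeOK_start hN0 rho uu 23 [12, 13, 14, 15, 16, 17, 18, 19, 21, 20, 22] 3 (by decide))

theorem hlev2 : Fn.LevelOK hN0 rho [1, 0] 3 84 :=
  Fn.levelOK_of_tree hN0 rho TT uu 23 rho_uu (by decide) (by decide) hgens2 htree2

theorem htree3 : Fn.TreeOK hN0 rho uu 23 [15, 16, 17, 18, 19, 21, 20, 22] 2 36033749672700788 18 :=
  Fn.treeOK_step hN0 rho TT uu 23 rho_uu ht3_0 rfl
    (Fn.treeOK_start hN0 rho uu 23 [15, 16, 17, 18, 19, 21, 20, 22] 2 (by decide))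

theorem hlev3 : Fn.LevelOK hN0 rho [3, 1, 0] 2 18 :=
  Fn.levelOK_of_tree hN0 rho TT uu 23 rho_uu (by decide) (by decide) hgens3 htree3

theorem htree4 : Fn.TreeOK hN0 rho uu 23 [17, 18, 19, 21, 20, 22] 4 533072 5 :=
  Fn.treeOK_step hN0 rho TT uu 23 rho_uu ht4_0 rfl
    (Fn.treeOK_start hN0 rho uu 23 [17, 18, 19, 21, 20, 22] 4 (by decide))

theorem hlev4 : Fn.LevelOK hN0 rho [2, 3, 1, 0] 4 5 :=
  Fn.levelOK_of_tree hN0 rho TT uu 23 rho_uu (by decide) (by decide) hgens4 htree4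

theorem htree5 : Fn.TreeOK hN0 rho uu 23 [18, 19, 21, 20, 22] 5 288 2 :=
  Fn.treeOK_step hN0 rho TT uu 23 rho_uu ht5_0 rfl
    (Fn.treeOK_start hN0 rho uu 23 [18, 19, 21, 20, 22] 5 (by decide))

theorem hlev5 : Fn.LevelOK hN0 rho [4, 2, 3, 1, 0] 5 2 :=
  Fn.levelOK_of_tree hN0 rho TT uu 23 rho_uu (by decide) (by decide) hgens5 htree5

theorem htree6 : Fn.TreeOK hN0 rho uu 23 [19, 21, 20, 22] 9 533056 4 :=
  Fn.treeOK_step hN0 rho TT uu 23 rho_uu ht6_0 rfl
    (Fn.treeOK_start hN0 rho uu 23 [19, 21, 20, 22] 9 (by decide))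

theorem hlev6 : Fn.LevelOK hN0 rho [5, 4, 2, 3, 1, 0] 9 4 :=
  Fn.levelOK_of_tree hN0 rho TT uu 23 rho_uu (by decide) (by decide) hgens6 htree6

theorem htree7 : Fn.TreeOK hN0 rho uu 23 [20, 22] 6 532544 3 :=
  Fn.treeOK_step hN0 rho TT uu 23 rho_uu ht7_0 rfl
    (Fn.treeOK_start hN0 rho uu 23 [20, 22] 6 (by decide))

theorem hlev7 : Fn.LevelOK hN0 rho [9, 5, 4, 2, 3, 1, 0] 6 3 :=
  Fn.levelOK_of_tree hN0 rho TT uu 23 rho_uu (by decide) (by decide) hgens7 htree7

theorem htree8 : Fn.TreeOK hN0 rho uu 23 [22] 13 532480 2 :=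
  Fn.treeOK_step hN0 rho TT uu 23 rho_uu ht8_0 rfl
    (Fn.treeOK_start hN0 rho uu 23 [22] 13 (by decide))

theorem hlev8 : Fn.LevelOK hN0 rho [6, 9, 5, 4, 2, 3, 1, 0] 13 2 :=
  Fn.levelOK_of_tree hN0 rho TT uu 23 rho_uu (by decide) (by decide) hgens8 htree8

theorem hlevels : Fn.LevelsOK hN0 rho [] [(0, 28431), (1, 960), (3, 84), (2, 18), (4, 5), (5, 2), (9, 4), (6, 3), (13, 2)] :=
  Fn.levelsOK_cons hN0 rho hlev0
    (Fn.levelsOK_cons hN0 rho hlev1
    (Fn.levelsOK_cons hN0 rho hlev2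
    (Fn.levelsOK_cons hN0 rho hlev3
    (Fn.levelsOK_cons hN0 rho hlev4
    (Fn.levelsOK_cons hN0 rho hlev5
    (Fn.levelsOK_cons hN0 rho hlev6
    (Fn.levelsOK_cons hN0 rho hlev7
    (Fn.levelsOK_cons hN0 rho hlev8
    (Fn.levelsOK_nil hN0 rho _)))))))))

/-- the lower bound for the order, and the injectivity of the representation if it is attained -/
theorem lower [Finite (PresentedGroup (Cfsg.Spor.coxRelators Cfsg.Agent.Lib.Helper12.Ord.Fi24P10.edges ∪
      {r | r ∈ Cfsg.Agent.Lib.Helper12.Ord.Fi24P10.extra}))] :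
    9904359628800 ≤ Nat.card (PresentedGroup (Cfsg.Spor.coxRelators Cfsg.Agent.Lib.Helper12.Ord.Fi24P10.edges ∪
      {r | r ∈ Cfsg.Agent.Lib.Helper12.Ord.Fi24P10.extra})) ∧
    (Nat.card (PresentedGroup (Cfsg.Spor.coxRelators Cfsg.Agent.Lib.Helper12.Ord.Fi24P10.edges ∪
      {r | r ∈ Cfsg.Agent.Lib.Helper12.Ord.Fi24P10.extra})) ≤ 9904359628800 → Function.Injective rho) := by
  have h := Fn.order_lower_parts hN0 rho [(0, 28431), (1, 960), (3, 84), (2, 18), (4, 5), (5, 2), (9, 4), (6, 3), (13, 2)] hlevels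
  have e : (([(0, 28431), (1, 960), (3, 84), (2, 18), (4, 5), (5, 2), (9, 4), (6, 3), (13, 2)] : List (ℕ × ℕ)).map Prod.snd).prod = 9904359628800 := by decide
  rw [e] at h
  exact h

end Cfsg.Agent.Lib.Helper12.TC.Fi24P10o28431
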