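import Cfsg.Agent.Lib.Helper12.TC.Fi24P10o28431.Live

/-! the final table for Fi24P10o28431, part 2 (generated, helper12) -/

set_option autoImplicit false
set_option maxRecDepth 100000

namespace Cfsg.Agent.Lib.Helper12.TC.Fi24P10o28431

open Cfsg.Agent.Lib.Helper12.TC

theorem hfin_2 : allListK fr2 (fun rec => finRec F LIVE cK 10 rec) = true := by decide +kernel

end Cfsg.Agent.Lib.Helper12.TC.Fi24P10o28431
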