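import Cfsg.Agent.Lib.Helper12.TC.Fi24P10o28431.Tab
import Cfsg.Agent.Lib.Helper12.TC.Fn.LowerParts

/-! checks for the lower bound of the order, part 26 (generated, helper12) -/

set_option autoImplicit false
set_option maxRecDepth 100000

namespace Cfsg.Agent.Lib.Helper12.TC.Fi24P10o28431

open Cfsg.Agent.Lib.Helper12.TC

theorem hs15_0 : Fn.slpColK TT 15 [12, 14, 11, 13, 11, 14, 10, 11, 10, 13, 5, 0, 8, 8, 9, 9, 5, 7, 9, 0, 3, 2, 8, 9, 2, 1, 8, 4, 0, 1, 1, 0, 7, 0, 4] 0 3333 = true := by decide +kernel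

theorem hs13_0 : Fn.slpColK TT 13 [11, 12, 12, 10, 11, 11, 12, 12, 10, 2, 8, 6, 5, 7, 0, 7, 0, 4, 9, 9, 9, 6, 2, 2, 8, 3, 0, 3, 8, 8, 3, 6, 8, 5] 0 3428 = true := by decide +kernel

theorem hs22_4 : Fn.slpColK TT 22 [19, 18, 17, 17, 16, 16, 14, 11, 15, 10, 11, 13, 5, 1, 9, 9, 6, 1, 9, 8, 3, 9, 1, 4, 5, 4, 9, 8, 1, 7, 4, 1, 0, 4, 0, 9, 0] 12628 3157 = true := by decide +kernel

end Cfsg.Agent.Lib.Helper12.TC.Fi24P10o28431
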